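import Groth.Agent.FormalA.Core07

/-!
# Comparison of local cohomology with formal local cohomology: injectivity in degree `s + 1`

Same as `FormalA.Core07.bijective_toLim`, with the injectivity in degree `s + 1` recorded.
-/

set_option autoImplicit false
universe u

open CategoryTheory Limits
open Groth.Agent.Localalg.DeltaFun Groth.Agent.Localalg.Gam Groth.Agent.Localalg.LCAbs
open Groth.Agent.Localalg

namespace Groth.Agent.Sga2lef.H106.Core

open FormalA FormalA.AlgCore FormalA.KLim FormalA.Stab07 FormalA.Core07 IsLocalRing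

variable {A : Type u} [CommRing A]

variable [IsNoetherianRing A] [IsLocalRing A] {I J : Ideal A}

variable [IsAdicComplete I A]

variable (I J) in
/-- the depth conditions and the vanishing outside `V(J)` imply bijectivity -/
theorem bijective_toLim' (hJ : J ≤ maximalIdeal A)
    (hJI : ∀ p : Ideal A, p.IsPrime → J ≤ p → I ≤ p → p = maximalIdeal A)
    (hω : ∃ ω : Dual.D A, Dual.IsDualizing A ω) (d : ℕ) (hd : LocCoh.CdLE A I d)
    (M : Type u) [AddCommGroup M] [Module A M] [Module.Finite A M] (s : ℕ)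
    (h₂ : ∀ (p : Ideal A) [p.IsPrime], ¬ I ≤ p →
      (∃ r : Ideal A, r.IsPrime ∧ p ≤ r ∧ I ≤ r ∧ r ≠ maximalIdeal A) →
        (s : ℕ∞) ≤ LocCoh.depth (Localization.AtPrime p) (LocalizedModule p.primeCompl M) ∨
          ((d + s : ℕ) : WithBot ℕ∞) <
            ((LocCoh.depth (Localization.AtPrime p) (LocalizedModule p.primeCompl M) : ℕ∞) :
              WithBot ℕ∞) + ringKrullDim (A ⧸ p))
    (hdep : ∀ (p : Ideal A) [p.IsPrime], TT A I p → ¬ J ≤ p → ((s + 1 : ℕ) : ℕ∞) ≤ dep p M) :
    (∀ i ≤ s, Function.Bijective (toLim (lin_lc J) I i M)) ∧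
      Function.Injective (toLim (lin_lc J) I (s + 1) M) := by
  let hlin := lin_lc J
  let hArt := artHyp hJ hJI
  let Θ := limHom hlin I hArt
  have hpmk : ∀ (p : Ideal A) [p.IsPrime], ¬ TT A I p → ∃ q : Ideal A, q.IsPrime ∧ p ≤ q ∧
      I ≤ q ∧ q ≠ maximalIdeal A ∧ ¬ J ≤ q := by
    intro p _ hp
    simp only [TT, not_forall] at hp
    obtain ⟨q, hq, hpq, hIq, hne⟩ := hp
    exact ⟨q, hq, hpq, hIq, hne, fun h => hne (hJI q hq h hIq)⟩
  have hnm : ∀ (p : Ideal A) [p.IsPrime], ¬ TT A I p → p ≠ maximalIdeal A := by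
    intro p _ hp h
    refine hp fun r hr hpr _ => ?_
    rw [h] at hpr
    exact ((IsLocalRing.le_maximalIdeal hr.ne_top).antisymm hpr)
  have hT : ∀ p q : Ideal A, p ≤ q → TT A I p → TT A I q := fun p q h1 h2 => h2.mono h1
  have hV : ∀ p q : Ideal A, p ≤ q → J ≤ p → J ≤ q := fun p q h1 h2 => h2.trans h1
  have hVT : ∀ (p : Ideal A) [p.IsPrime], J ≤ p → TT A I p := fun p _ h r hr hpr hIr =>
    hJI r hr (h.trans hpr) hIr
  have hK : ∀ (M : Type u) [AddCommGroup M] [Module A M] [Module.Finite A M]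
      (p : Ideal A) [p.IsPrime], ¬ TT A I p → Van p ((limCohF hlin I hArt).obj 0 M) := by
    intro M _ _ _ p _ hp y
    obtain ⟨q, hq, hpq, hIq, -, hJq⟩ := hpmk p hp
    obtain ⟨f, hf, h0⟩ := FormZero.van_zero (I := I) (J := J) M hIq hJq y.1 y.2
    exact ⟨f, fun h => hf (hpq h), Subtype.ext (funext fun n => h0 n)⟩
  have h0i : ∀ (M : Type u) [AddCommGroup M] [Module A M] [Module.Finite A M],
      Function.Injective (Θ.app 0 M) := by
    intro M _ _ _
    rw [injective_iff_map_eq_zero]
    intro x hx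
    refine FormZero.injective_zero (I := I) (J := J) M x fun n => ?_
    exact congrArg (fun z => z.1 n) hx
  have h0s : ∀ (M : Type u) [AddCommGroup M] [Module A M] [Module.Finite A M],
      (∀ (p : Ideal A) [p.IsPrime], TT A I p → ¬ J ≤ p → 1 ≤ dep p M) →
      Function.Surjective (Θ.app 0 M) := by
    intro M _ _ _ hM y
    obtain ⟨x, hx⟩ := FormZero.surjective_zero (I := I) (J := J) M (fun p _ h1 h2 =>
      hM p (fun r hr hpr hIr => hJI r hr (h1 r hr hpr hIr) hIr) h2) y.1 y.2
    exact ⟨x, Subtype.ext (funext fun n => hx n)⟩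
  have htor : ∀ (M : Type u) [AddCommGroup M] [Module A M] [Module.Finite A M],
      (∀ (p : Ideal A) [p.IsPrime], ¬ J ≤ p → Van p M) → ∀ i, Function.Bijective (Θ.app i M) := by
    intro M _ _ _ hM i
    cases i with
    | zero =>
      refine ⟨h0i M, h0s M fun p _ _ h2 => ?_⟩
      rw [dep_eq_top (hM p h2)]
      exact le_top
    | succ i =>
      have hMt : LocCoh.IsPowerTorsion J M := fun m =>
        FormZero.mem_gam_of_tors J M m (fun p _ hp => hM p hp m)
      have h1 : Subsingleton ((baseCohF hlin).obj (i + 1) M) :=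
        LCIface.subsingleton_H_of_torsion J M hMt (i + 1) (Nat.succ_pos i)
      have h2 : Subsingleton (Lm hlin (i + 1) (fil I M) (fil_antitone I M)) := by
        refine ⟨fun a b => Subtype.ext (funext fun n => ?_)⟩
        have h3 : Subsingleton ((baseCohF hlin).obj (i + 1) (M ⧸ fil I M n)) :=
          LCIface.subsingleton_H_of_torsion J (M ⧸ fil I M n) (fun y => by
            obtain ⟨m, rfl⟩ := Submodule.mkQ_surjective _ y
            obtain ⟨k, hk⟩ := hMt m
            exact ⟨k, fun a ha => by rw [← map_smul, hk a ha, map_zero]⟩) (i + 1) (Nat.succ_pos i)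
        exact Subsingleton.elim _ _
      refine ⟨fun a b _ => Subsingleton.elim a b, fun y => ⟨0, ?_⟩⟩
      exact @Subsingleton.elim _ h2 _ _
  have hDC : ∀ (p : Ideal A) [p.IsPrime], ¬ TT A I p → (limCohF hlin I hArt).DC s p M := by
    intro p _ hp
    obtain ⟨q, hq, hpq, hIq, hqm, hJq⟩ := hpmk p hp
    by_cases hIp : I ≤ p
    · refine Or.inr ⟨0, s, by simp, by omega, fun i _ => ?_⟩
      have h1 := (toLim_bijective_of_torsion hlin I i (A ⧸ p) 1 (fun a ha x => by
        rw [pow_one] at ha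
        obtain ⟨b, rfl⟩ := Ideal.Quotient.mk_surjective x
        rw [Algebra.smul_def]
        change Ideal.Quotient.mk p a * _ = 0
        rw [Ideal.Quotient.eq_zero_iff_mem.mpr (hIp ha), zero_mul])).2
      exact (van_H (A ⧸ p) i p (fun h => hJq (h.trans hpq))).of_surjective _ h1
    · rcases h₂ p hIp ⟨q, hq, hpq, hIq, hqm⟩ with h1 | h1
      · exact Or.inl h1
      · by_cases h2 : (s : ℕ∞) ≤ dep p M
        · exact Or.inl h2
        · rw [not_le] at h2
          obtain ⟨e, he⟩ := ENat.ne_top_iff_exists.mp (ne_top_of_lt h2)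
          rw [← he, Nat.cast_lt] at h2
          obtain ⟨k, rfl⟩ := Nat.exists_eq_add_of_lt h2
          refine Or.inr ⟨e, k + 1, he.le, by omega, ?_⟩
          have hdim : ((k + 1 + d : ℕ) : WithBot ℕ∞) < ringKrullDim (A ⧸ p) := by
            change ((d + (e + k + 1) : ℕ) : WithBot ℕ∞) < ((dep p M : ℕ∞) : WithBot ℕ∞) + _ at h1
            rw [← he] at h1
            by_contra hcon
            rw [not_lt] at hcon
            have h3 : ((e : ℕ∞) : WithBot ℕ∞) + ringKrullDim (A ⧸ p) ≤
                ((e : ℕ∞) : WithBot ℕ∞) + ((k + 1 + d : ℕ) : WithBot ℕ∞) := by gcongr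
            refine absurd (h1.trans_le h3) (not_lt.mpr (le_of_eq ?_))
            have h4 : ((e : ℕ∞) : WithBot ℕ∞) = ((e : ℕ) : WithBot ℕ∞) := rfl
            rw [h4, ← Nat.cast_add]
            congr 1
            omega
          obtain ⟨f, hf, hf0⟩ := LCSmall.exists_kill_of_lt_dim hω p (hnm p hp) (k + 1 + d) hdim
          intro i hi
          refine van_of_smul (f := f ^ (d + 1))
            (fun h => hf (Ideal.IsPrime.mem_of_pow_mem ‹_› _ h)) fun y => ?_
          refine smul_lim_eq_zero hlin I i (A ⧸ p) (f ^ (d + 1)) (fun n => ?_) y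
          obtain ⟨m, hnm', hm⟩ := LCSmall.exists_ge_elem hJ hJI (A ⧸ p) d hd n
          refine ⟨m, hnm', fun x => ?_⟩
          exact hm f (k + 1) (fun l hl x => hf0 l hl x) i hi x
  exact (Θ.bijective_of_dcJ (TT A I) (fun p => J ≤ p) hT hV hVT (fun M _ _ _ i p _ hp =>
    van_H M i p hp) hK h0i (fun M _ _ _ hM => ⟨h0i M, h0s M hM⟩) htor s M hDC hdep)


end Groth.Agent.Sga2lef.H106.Core
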